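import Cfsg.Agent.Lib.ConwayP.Co2p2D
import Cfsg.Agent.Lib.ConwayP.PcFast

set_option autoImplicit false
set_option maxRecDepth 100000
set_option maxHeartbeats 0

namespace Cfsg.Agent.Lib.ConwayP.Co2p2

open Cfsg.Agent.Lib.Schur.PcMain Cfsg.Agent.Lib.ConwayP.PcFast

theorem ovr_0 : ovOK C ov_0 = true := by decide +kernel

theorem ovr_1 : ovOK C ov_1 = true := by decide +kernel

theorem ovr_2 : ovOK C ov_2 = true := by decide +kernel

theorem ovr_3 : ovOK C ov_3 = true := by decide +kernel

theorem ovr_4 : ovOK C ov_4 = true := by decide +kernel

theorem ovr_5 : ovOK C ov_5 = true := by decide +kernel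

theorem ovr_6 : ovOK C ov_6 = true := by decide +kernel

theorem ovr_7 : ovOK C ov_7 = true := by decide +kernel

theorem ovr_8 : ovOK C ov_8 = true := by decide +kernel

theorem ovr_9 : ovOK C ov_9 = true := by decide +kernel

theorem ovr_10 : ovOK C ov_10 = true := by decide +kernel

theorem ovr_11 : ovOK C ov_11 = true := by decide +kernel

theorem ovr_12 : ovOK C ov_12 = true := by decide +kernel

theorem ovr_13 : ovOK C ov_13 = true := by decide +kernel

theorem ovr_14 : ovOK C ov_14 = true := by decide +kernel

theorem ovr_15 : ovOK C ov_15 = true := by decide +kernel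

theorem ovr_16 : ovOK C ov_16 = true := by decide +kernel

theorem ovr_17 : ovOK C ov_17 = true := by decide +kernel

theorem ovr_18 : ovOK C ov_18 = true := by decide +kernel

theorem ovr_19 : ovOK C ov_19 = true := by decide +kernel

theorem ovr_20 : ovOK C ov_20 = true := by decide +kernel

theorem ovr_21 : ovOK C ov_21 = true := by decide +kernel

theorem ovr_22 : ovOK C ov_22 = true := by decide +kernel

theorem ovr_23 : ovOK C ov_23 = true := by decide +kernel

theorem ovr_24 : ovOK C ov_24 = true := by decide +kernel

theorem ovr_25 : ovOK C ov_25 = true := by decide +kernel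

theorem ovr_26 : ovOK C ov_26 = true := by decide +kernel

theorem ovr_27 : ovOK C ov_27 = true := by decide +kernel

theorem ovr_28 : ovOK C ov_28 = true := by decide +kernel

theorem ovr_29 : ovOK C ov_29 = true := by decide +kernel

theorem ovr_30 : ovOK C ov_30 = true := by decide +kernel

theorem ovr_31 : ovOK C ov_31 = true := by decide +kernel

theorem ovr_32 : ovOK C ov_32 = true := by decide +kernel

theorem ovr_33 : ovOK C ov_33 = true := by decide +kernel

theorem ovr_34 : ovOK C ov_34 = true := by decide +kernel

theorem ovr_35 : ovOK C ov_35 = true := by decide +kernel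

theorem ovr_36 : ovOK C ov_36 = true := by decide +kernel

theorem ovr_37 : ovOK C ov_37 = true := by decide +kernel

theorem ovr_38 : ovOK C ov_38 = true := by decide +kernel

theorem ovr_39 : ovOK C ov_39 = true := by decide +kernel

theorem ovr_40 : ovOK C ov_40 = true := by decide +kernel

theorem ovr_41 : ovOK C ov_41 = true := by decide +kernel

theorem ovr_42 : ovOK C ov_42 = true := by decide +kernel

theorem ovr_43 : ovOK C ov_43 = true := by decide +kernel

theorem ovr_44 : ovOK C ov_44 = true := by decide +kernel

theorem ovr_45 : ovOK C ov_45 = true := by decide +kernel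

theorem ovr_46 : ovOK C ov_46 = true := by decide +kernel

theorem ovr_47 : ovOK C ov_47 = true := by decide +kernel

theorem ovr_48 : ovOK C ov_48 = true := by decide +kernel

theorem ovr_49 : ovOK C ov_49 = true := by decide +kernel

theorem ovr_50 : ovOK C ov_50 = true := by decide +kernel

theorem ovr_51 : ovOK C ov_51 = true := by decide +kernel

theorem ovr_52 : ovOK C ov_52 = true := by decide +kernel

theorem ovr_53 : ovOK C ov_53 = true := by decide +kernel

theorem ovr_54 : ovOK C ov_54 = true := by decide +kernel

theorem ovr_55 : ovOK C ov_55 = true := by decide +kernel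

theorem ovr_56 : ovOK C ov_56 = true := by decide +kernel

theorem ovr_57 : ovOK C ov_57 = true := by decide +kernel

theorem ovr_58 : ovOK C ov_58 = true := by decide +kernel

theorem ovr_59 : ovOK C ov_59 = true := by decide +kernel

theorem ovr_60 : ovOK C ov_60 = true := by decide +kernel

theorem ovr_61 : ovOK C ov_61 = true := by decide +kernel

theorem ovr_62 : ovOK C ov_62 = true := by decide +kernel

theorem ovr_63 : ovOK C ov_63 = true := by decide +kernel

theorem ovr_64 : ovOK C ov_64 = true := by decide +kernel

theorem ovr_65 : ovOK C ov_65 = true := by decide +kernel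

theorem ovr_66 : ovOK C ov_66 = true := by decide +kernel

theorem ovr_67 : ovOK C ov_67 = true := by decide +kernel

theorem ovr_68 : ovOK C ov_68 = true := by decide +kernel

theorem ovr_69 : ovOK C ov_69 = true := by decide +kernel

theorem ovr_70 : ovOK C ov_70 = true := by decide +kernel

theorem ovr_71 : ovOK C ov_71 = true := by decide +kernel

theorem ovr_72 : ovOK C ov_72 = true := by decide +kernel

theorem ovr_73 : ovOK C ov_73 = true := by decide +kernel

theorem ovr_74 : ovOK C ov_74 = true := by decide +kernel

theorem ovr_75 : ovOK C ov_75 = true := by decide +kernel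

theorem ovr_76 : ovOK C ov_76 = true := by decide +kernel

theorem ovr_77 : ovOK C ov_77 = true := by decide +kernel

theorem ovr_78 : ovOK C ov_78 = true := by decide +kernel

theorem ovr_79 : ovOK C ov_79 = true := by decide +kernel

theorem ovr_80 : ovOK C ov_80 = true := by decide +kernel

theorem ovr_81 : ovOK C ov_81 = true := by decide +kernel

theorem ovr_82 : ovOK C ov_82 = true := by decide +kernel

theorem ovr_83 : ovOK C ov_83 = true := by decide +kernel

theorem ovr_84 : ovOK C ov_84 = true := by decide +kernel

theorem ovr_85 : ovOK C ov_85 = true := by decide +kernel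

theorem ovr_86 : ovOK C ov_86 = true := by decide +kernel

theorem ovr_87 : ovOK C ov_87 = true := by decide +kernel

theorem ovr_88 : ovOK C ov_88 = true := by decide +kernel

theorem ovr_89 : ovOK C ov_89 = true := by decide +kernel

theorem ovr_90 : ovOK C ov_90 = true := by decide +kernel

theorem ovr_91 : ovOK C ov_91 = true := by decide +kernel

theorem ovr_92 : ovOK C ov_92 = true := by decide +kernel

theorem ovr_93 : ovOK C ov_93 = true := by decide +kernel

theorem ovr_94 : ovOK C ov_94 = true := by decide +kernel

theorem ovr_95 : ovOK C ov_95 = true := by decide +kernel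

theorem ovr_96 : ovOK C ov_96 = true := by decide +kernel

theorem ovr_97 : ovOK C ov_97 = true := by decide +kernel

theorem ovr_98 : ovOK C ov_98 = true := by decide +kernel

theorem ovr_99 : ovOK C ov_99 = true := by decide +kernel

theorem ovr_100 : ovOK C ov_100 = true := by decide +kernel

theorem ovr_101 : ovOK C ov_101 = true := by decide +kernel

theorem ovr_102 : ovOK C ov_102 = true := by decide +kernel

theorem ovr_103 : ovOK C ov_103 = true := by decide +kernel

theorem ovr_104 : ovOK C ov_104 = true := by decide +kernel

theorem ovr_105 : ovOK C ov_105 = true := by decide +kernel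

theorem ovr_106 : ovOK C ov_106 = true := by decide +kernel

theorem ovr_107 : ovOK C ov_107 = true := by decide +kernel

theorem ovr_108 : ovOK C ov_108 = true := by decide +kernel

theorem ovr_109 : ovOK C ov_109 = true := by decide +kernel

theorem ovr_110 : ovOK C ov_110 = true := by decide +kernel

theorem ovr_111 : ovOK C ov_111 = true := by decide +kernel

theorem ovr_112 : ovOK C ov_112 = true := by decide +kernel

theorem ovr_113 : ovOK C ov_113 = true := by decide +kernel

theorem ovr_114 : ovOK C ov_114 = true := by decide +kernel

theorem ovr_115 : ovOK C ov_115 = true := by decide +kernel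

theorem ovr_116 : ovOK C ov_116 = true := by decide +kernel

theorem ovr_117 : ovOK C ov_117 = true := by decide +kernel

theorem ovr_118 : ovOK C ov_118 = true := by decide +kernel

theorem ovr_119 : ovOK C ov_119 = true := by decide +kernel

theorem ovr_120 : ovOK C ov_120 = true := by decide +kernel

theorem ovr_121 : ovOK C ov_121 = true := by decide +kernel

theorem ovr_122 : ovOK C ov_122 = true := by decide +kernel

theorem ovr_123 : ovOK C ov_123 = true := by decide +kernel

theorem ovr_124 : ovOK C ov_124 = true := by decide +kernel

theorem ovr_125 : ovOK C ov_125 = true := by decide +kernel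

theorem ovr_126 : ovOK C ov_126 = true := by decide +kernel

theorem ovr_127 : ovOK C ov_127 = true := by decide +kernel

theorem ovr_128 : ovOK C ov_128 = true := by decide +kernel

theorem ovr_129 : ovOK C ov_129 = true := by decide +kernel


end Cfsg.Agent.Lib.ConwayP.Co2p2
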