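import Cfsg.Agent.Lib.ConwayP.Co2p2S
import Cfsg.Agent.Lib.ConwayP.PcFast

set_option autoImplicit false
set_option maxRecDepth 100000
set_option maxHeartbeats 0

namespace Cfsg.Agent.Lib.ConwayP.Co2p2

open Cfsg.Agent.Lib.Schur.PcMain Cfsg.Agent.Lib.ConwayP.PcFast

theorem tgr_0 : tgOK C M_0 tg_0 = true := by decide +kernel

theorem tgr_1 : tgOK C M_1 tg_1 = true := by decide +kernel

theorem tgr_2 : tgOK C M_2 tg_2 = true := by decide +kernel

theorem tgr_3 : tgOK C M_3 tg_3 = true := by decide +kernel

theorem tgr_4 : tgOK C M_4 tg_4 = true := by decide +kernel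

theorem tgr_5 : tgOK C M_5 tg_5 = true := by decide +kernel

theorem tgr_6 : tgOK C M_6 tg_6 = true := by decide +kernel

theorem tgr_7 : tgOK C M_7 tg_7 = true := by decide +kernel

theorem tgr_8 : tgOK C M_8 tg_8 = true := by decide +kernel

theorem tgr_9 : tgOK C M_9 tg_9 = true := by decide +kernel

theorem tgr_10 : tgOK C M_10 tg_10 = true := by decide +kernel

theorem tgr_11 : tgOK C M_11 tg_11 = true := by decide +kernel

theorem tgr_12 : tgOK C M_12 tg_12 = true := by decide +kernel

theorem tgr_13 : tgOK C M_13 tg_13 = true := by decide +kernel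

theorem tgr_14 : tgOK C M_14 tg_14 = true := by decide +kernel

theorem tgr_15 : tgOK C M_15 tg_15 = true := by decide +kernel

theorem tgr_16 : tgOK C M_16 tg_16 = true := by decide +kernel

theorem tgr_17 : tgOK C M_17 tg_17 = true := by decide +kernel

theorem tgr_18 : tgOK C M_18 tg_18 = true := by decide +kernel

theorem tgr_19 : tgOK C M_19 tg_19 = true := by decide +kernel

theorem tgr_20 : tgOK C M_20 tg_20 = true := by decide +kernel

theorem tgr_21 : tgOK C M_21 tg_21 = true := by decide +kernel

theorem tgr_22 : tgOK C M_22 tg_22 = true := by decide +kernel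

theorem tgr_23 : tgOK C M_23 tg_23 = true := by decide +kernel

theorem tgr_24 : tgOK C M_24 tg_24 = true := by decide +kernel

theorem tgr_25 : tgOK C M_25 tg_25 = true := by decide +kernel

theorem tgr_26 : tgOK C M_26 tg_26 = true := by decide +kernel

theorem tgr_27 : tgOK C M_27 tg_27 = true := by decide +kernel

theorem tgr_28 : tgOK C M_28 tg_28 = true := by decide +kernel

theorem tgr_29 : tgOK C M_29 tg_29 = true := by decide +kernel

theorem tgr_30 : tgOK C M_30 tg_30 = true := by decide +kernel

theorem tgr_31 : tgOK C M_31 tg_31 = true := by decide +kernel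

theorem tgr_32 : tgOK C M_32 tg_32 = true := by decide +kernel

theorem tgr_33 : tgOK C M_33 tg_33 = true := by decide +kernel

theorem tgr_34 : tgOK C M_34 tg_34 = true := by decide +kernel

theorem tgr_35 : tgOK C M_35 tg_35 = true := by decide +kernel

theorem tgr_36 : tgOK C M_36 tg_36 = true := by decide +kernel

theorem tgr_37 : tgOK C M_37 tg_37 = true := by decide +kernel

theorem tgr_38 : tgOK C M_38 tg_38 = true := by decide +kernel

theorem tgr_39 : tgOK C M_39 tg_39 = true := by decide +kernel

theorem tgr_40 : tgOK C M_40 tg_40 = true := by decide +kernel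

theorem tgr_41 : tgOK C M_41 tg_41 = true := by decide +kernel

theorem tgr_42 : tgOK C M_42 tg_42 = true := by decide +kernel

theorem tgr_43 : tgOK C M_43 tg_43 = true := by decide +kernel

theorem tgr_44 : tgOK C M_44 tg_44 = true := by decide +kernel

theorem tgr_45 : tgOK C M_45 tg_45 = true := by decide +kernel

theorem tgr_46 : tgOK C M_46 tg_46 = true := by decide +kernel

theorem tgr_47 : tgOK C M_47 tg_47 = true := by decide +kernel

theorem tgr_48 : tgOK C M_48 tg_48 = true := by decide +kernel

theorem tgr_49 : tgOK C M_49 tg_49 = true := by decide +kernel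

theorem tgr_50 : tgOK C M_50 tg_50 = true := by decide +kernel

theorem tgr_51 : tgOK C M_51 tg_51 = true := by decide +kernel

theorem tgr_52 : tgOK C M_52 tg_52 = true := by decide +kernel

theorem tgr_53 : tgOK C M_53 tg_53 = true := by decide +kernel

theorem tgr_54 : tgOK C M_54 tg_54 = true := by decide +kernel

theorem tgr_55 : tgOK C M_55 tg_55 = true := by decide +kernel

theorem tgr_56 : tgOK C M_56 tg_56 = true := by decide +kernel

theorem tgr_57 : tgOK C M_57 tg_57 = true := by decide +kernel

theorem tgr_58 : tgOK C M_58 tg_58 = true := by decide +kernel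

theorem tgr_59 : tgOK C M_59 tg_59 = true := by decide +kernel

theorem tgr_60 : tgOK C M_60 tg_60 = true := by decide +kernel

theorem tgr_61 : tgOK C M_61 tg_61 = true := by decide +kernel

theorem tgr_62 : tgOK C M_62 tg_62 = true := by decide +kernel

theorem tgr_63 : tgOK C M_63 tg_63 = true := by decide +kernel

theorem tgr_64 : tgOK C M_64 tg_64 = true := by decide +kernel

theorem tgr_65 : tgOK C M_65 tg_65 = true := by decide +kernel

theorem tgr_66 : tgOK C M_66 tg_66 = true := by decide +kernel

theorem tgr_67 : tgOK C M_67 tg_67 = true := by decide +kernel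

theorem tgr_68 : tgOK C M_68 tg_68 = true := by decide +kernel

theorem tgr_69 : tgOK C M_69 tg_69 = true := by decide +kernel

theorem tgr_70 : tgOK C M_70 tg_70 = true := by decide +kernel

theorem tgr_71 : tgOK C M_71 tg_71 = true := by decide +kernel

theorem tgr_72 : tgOK C M_72 tg_72 = true := by decide +kernel

theorem tgr_73 : tgOK C M_73 tg_73 = true := by decide +kernel

theorem tgr_74 : tgOK C M_74 tg_74 = true := by decide +kernel

theorem tgr_75 : tgOK C M_75 tg_75 = true := by decide +kernel

theorem tgr_76 : tgOK C M_76 tg_76 = true := by decide +kernel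

theorem tgr_77 : tgOK C M_77 tg_77 = true := by decide +kernel

theorem tgr_78 : tgOK C M_78 tg_78 = true := by decide +kernel

theorem tgr_79 : tgOK C M_79 tg_79 = true := by decide +kernel

theorem tgr_80 : tgOK C M_80 tg_80 = true := by decide +kernel

theorem tgr_81 : tgOK C M_81 tg_81 = true := by decide +kernel

theorem tgr_82 : tgOK C M_82 tg_82 = true := by decide +kernel

theorem tgr_83 : tgOK C M_83 tg_83 = true := by decide +kernel

theorem tgr_84 : tgOK C M_84 tg_84 = true := by decide +kernel

theorem tgr_85 : tgOK C M_85 tg_85 = true := by decide +kernel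

theorem tgr_86 : tgOK C M_86 tg_86 = true := by decide +kernel

theorem tgr_87 : tgOK C M_87 tg_87 = true := by decide +kernel

theorem tgr_88 : tgOK C M_88 tg_88 = true := by decide +kernel

theorem tgr_89 : tgOK C M_89 tg_89 = true := by decide +kernel

theorem tgr_90 : tgOK C M_90 tg_90 = true := by decide +kernel

theorem tgr_91 : tgOK C M_91 tg_91 = true := by decide +kernel

theorem tgr_92 : tgOK C M_92 tg_92 = true := by decide +kernel

theorem tgr_93 : tgOK C M_93 tg_93 = true := by decide +kernel

theorem tgr_94 : tgOK C M_94 tg_94 = true := by decide +kernel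

theorem tgr_95 : tgOK C M_95 tg_95 = true := by decide +kernel

theorem tgr_96 : tgOK C M_96 tg_96 = true := by decide +kernel

theorem tgr_97 : tgOK C M_97 tg_97 = true := by decide +kernel

theorem tgr_98 : tgOK C M_98 tg_98 = true := by decide +kernel

theorem tgr_99 : tgOK C M_99 tg_99 = true := by decide +kernel

theorem tgr_100 : tgOK C M_100 tg_100 = true := by decide +kernel

theorem tgr_101 : tgOK C M_101 tg_101 = true := by decide +kernel

theorem tgr_102 : tgOK C M_102 tg_102 = true := by decide +kernel

theorem tgr_103 : tgOK C M_103 tg_103 = true := by decide +kernel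

theorem tgr_104 : tgOK C M_104 tg_104 = true := by decide +kernel

theorem tgr_105 : tgOK C M_105 tg_105 = true := by decide +kernel

theorem tgr_106 : tgOK C M_106 tg_106 = true := by decide +kernel

theorem tgr_107 : tgOK C M_107 tg_107 = true := by decide +kernel

theorem tgr_108 : tgOK C M_108 tg_108 = true := by decide +kernel

theorem tgr_109 : tgOK C M_109 tg_109 = true := by decide +kernel

theorem tgr_110 : tgOK C M_110 tg_110 = true := by decide +kernel

theorem tgr_111 : tgOK C M_111 tg_111 = true := by decide +kernel

theorem tgr_112 : tgOK C M_112 tg_112 = true := by decide +kernel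

theorem tgr_113 : tgOK C M_113 tg_113 = true := by decide +kernel

theorem tgr_114 : tgOK C M_114 tg_114 = true := by decide +kernel

theorem tgr_115 : tgOK C M_115 tg_115 = true := by decide +kernel

theorem tgr_116 : tgOK C M_116 tg_116 = true := by decide +kernel

theorem tgr_117 : tgOK C M_117 tg_117 = true := by decide +kernel

theorem tgr_118 : tgOK C M_118 tg_118 = true := by decide +kernel

theorem tgr_119 : tgOK C M_119 tg_119 = true := by decide +kernel

theorem tgr_120 : tgOK C M_120 tg_120 = true := by decide +kernel

theorem tgr_121 : tgOK C M_121 tg_121 = true := by decide +kernel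

theorem tgr_122 : tgOK C M_122 tg_122 = true := by decide +kernel

theorem tgr_123 : tgOK C M_123 tg_123 = true := by decide +kernel

theorem tgr_124 : tgOK C M_124 tg_124 = true := by decide +kernel

theorem tgr_125 : tgOK C M_125 tg_125 = true := by decide +kernel

theorem tgr_126 : tgOK C M_126 tg_126 = true := by decide +kernel

theorem tgr_127 : tgOK C M_127 tg_127 = true := by decide +kernel

theorem tgr_128 : tgOK C M_128 tg_128 = true := by decide +kernel

theorem tgr_129 : tgOK C M_129 tg_129 = true := by decide +kernel

theorem tgr_130 : tgOK C M_130 tg_130 = true := by decide +kernel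

theorem tgr_131 : tgOK C M_131 tg_131 = true := by decide +kernel

theorem tgr_132 : tgOK C M_132 tg_132 = true := by decide +kernel

theorem tgr_133 : tgOK C M_133 tg_133 = true := by decide +kernel

theorem tgr_134 : tgOK C M_134 tg_134 = true := by decide +kernel

theorem tgr_135 : tgOK C M_135 tg_135 = true := by decide +kernel

theorem tgr_136 : tgOK C M_136 tg_136 = true := by decide +kernel

theorem tgr_137 : tgOK C M_137 tg_137 = true := by decide +kernel

theorem tgr_138 : tgOK C M_138 tg_138 = true := by decide +kernel

theorem tgr_139 : tgOK C M_139 tg_139 = true := by decide +kernel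

theorem tgr_140 : tgOK C M_140 tg_140 = true := by decide +kernel

theorem tgr_141 : tgOK C M_141 tg_141 = true := by decide +kernel

theorem tgr_142 : tgOK C M_142 tg_142 = true := by decide +kernel

theorem tgr_143 : tgOK C M_143 tg_143 = true := by decide +kernel

theorem tgr_144 : tgOK C M_144 tg_144 = true := by decide +kernel

theorem tgr_145 : tgOK C M_145 tg_145 = true := by decide +kernel

theorem tgr_146 : tgOK C M_146 tg_146 = true := by decide +kernel

theorem tgr_147 : tgOK C M_147 tg_147 = true := by decide +kernel

theorem tgr_148 : tgOK C M_148 tg_148 = true := by decide +kernel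

theorem tgr_149 : tgOK C M_149 tg_149 = true := by decide +kernel

theorem tgr_150 : tgOK C M_150 tg_150 = true := by decide +kernel

theorem tgr_151 : tgOK C M_151 tg_151 = true := by decide +kernel

theorem tgr_152 : tgOK C M_152 tg_152 = true := by decide +kernel

theorem tgr_153 : tgOK C M_153 tg_153 = true := by decide +kernel

theorem tgr_154 : tgOK C M_154 tg_154 = true := by decide +kernel

theorem tgr_155 : tgOK C M_155 tg_155 = true := by decide +kernel

theorem tgr_156 : tgOK C M_156 tg_156 = true := by decide +kernel

theorem tgr_157 : tgOK C M_157 tg_157 = true := by decide +kernel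

theorem tgr_158 : tgOK C M_158 tg_158 = true := by decide +kernel

theorem tgr_159 : tgOK C M_159 tg_159 = true := by decide +kernel

theorem tgr_160 : tgOK C M_160 tg_160 = true := by decide +kernel

theorem tgr_161 : tgOK C M_161 tg_161 = true := by decide +kernel

theorem tgr_162 : tgOK C M_162 tg_162 = true := by decide +kernel

theorem tgr_163 : tgOK C M_163 tg_163 = true := by decide +kernel

theorem tgr_164 : tgOK C M_164 tg_164 = true := by decide +kernel

theorem tgr_165 : tgOK C M_165 tg_165 = true := by decide +kernel


end Cfsg.Agent.Lib.ConwayP.Co2p2
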