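import Cfsg.Agent.Lib.ConwayP.Co2p2Fr0
import Cfsg.Agent.Lib.ConwayP.Co2p2Ov
import Cfsg.Agent.Lib.ConwayP.Co2p2Tg0
import Cfsg.Agent.Lib.ConwayP.Co2p2Z

/-!
# A tail certificate for a Sylow 2-subgroup of `Co₂`
-/

set_option autoImplicit false
set_option maxRecDepth 100000
set_option maxHeartbeats 0

namespace Cfsg.Agent.Lib.ConwayP.Co2p2

open Cfsg.Agent.Lib.Schur.PcMain Cfsg.Agent.Lib.ConwayP.LatPc Cfsg.Agent.Lib.ConwayP.LatSpan Cfsg.Agent.Lib.ConwayP.Co2Base Cfsg.Agent.Lib.ConwayP.PcFast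

theorem tab_ok : C.chkTable = true := by decide +kernel

theorem defs_ok : C.chkDefs = true := by decide +kernel

theorem ovs_ok : C.ovs.all (ovOK C) = true := (all_cons ovr_0 (all_cons ovr_1 (all_cons ovr_2 (all_cons ovr_3 (all_cons ovr_4 (all_cons ovr_5 (all_cons ovr_6 (all_cons ovr_7 (all_cons ovr_8 (all_cons ovr_9 (all_cons ovr_10 (all_cons ovr_11 (all_cons ovr_12 (all_cons ovr_13 (all_cons ovr_14 (all_cons ovr_15 (all_cons ovr_16 (all_cons ovr_17 (all_cons ovr_18 (all_cons ovr_19 (all_cons ovr_20 (all_cons ovr_21 (all_cons ovr_22 (all_cons ovr_23 (all_cons ovr_24 (all_cons ovr_25 (all_cons ovr_26 (all_cons ovr_27 (all_cons ovr_28 (all_cons ovr_29 (all_cons ovr_30 (all_cons ovr_31 (all_cons ovr_32 (all_cons ovr_33 (all_cons ovr_34 (all_cons ovr_35 (all_cons ovr_36 (all_cons ovr_37 (all_cons ovr_38 (all_cons ovr_39 (all_cons ovr_40 (all_cons ovr_41 (all_cons ovr_42 (all_cons ovr_43 (all_cons ovr_44 (all_cons ovr_45 (all_cons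 ovr_46 (all_cons ovr_47 (all_cons ovr_48 (all_cons ovr_49 (all_cons ovr_50 (all_cons ovr_51 (all_cons ovr_52 (all_cons ovr_53 (all_cons ovr_54 (all_cons ovr_55 (all_cons ovr_56 (all_cons ovr_57 (all_cons ovr_58 (all_cons ovr_59 (all_cons ovr_60 (all_cons ovr_61 (all_cons ovr_62 (all_cons ovr_63 (all_cons ovr_64 (all_cons ovr_65 (all_cons ovr_66 (all_cons ovr_67 (all_cons ovr_68 (all_cons ovr_69 (all_cons ovr_70 (all_cons ovr_71 (all_cons ovr_72 (all_cons ovr_73 (all_cons ovr_74 (all_cons ovr_75 (all_cons ovr_76 (all_cons ovr_77 (all_cons ovr_78 (all_cons ovr_79 (all_cons ovr_80 (all_cons ovr_81 (all_cons ovr_82 (all_cons ovr_83 (all_cons ovr_84 (all_cons ovr_85 (all_cons ovr_86 (all_cons ovr_87 (all_cons ovr_88 (all_cons ovr_89 (all_cons ovr_90 (all_cons ovr_91 (all_cons ovr_92 (all_cons ovr_93 (all_cons ovr_94 (all_cons ovr_95 (all_cons ovr_96 (all_cons ovr_97 (all_cons ovr_98 (all_cons ovr_99 (all_cons ovr_100 (all_cons ovr_101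 (all_cons ovr_102 (all_cons ovr_103 (all_cons ovr_104 (all_cons ovr_105 (all_cons ovr_106 (all_cons ovr_107 (all_cons ovr_108 (all_cons ovr_109 (all_cons ovr_110 (all_cons ovr_111 (all_cons ovr_112 (all_cons ovr_113 (all_cons ovr_114 (all_cons ovr_115 (all_cons ovr_116 (all_cons ovr_117 (all_cons ovr_118 (all_cons ovr_119 (all_cons ovr_120 (all_cons ovr_121 (all_cons ovr_122 (all_cons ovr_123 (all_cons ovr_124 (all_cons ovr_125 (all_cons ovr_126 (all_cons ovr_127 (all_cons ovr_128 (all_cons ovr_129 all_nil))))))))))))))))))))))))))))))))))))))))))))))))))))))))))))))))))))))))))))))))))))))))))))))))))))))))))))))))))))))))))))))))))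

theorem frs_ok : C.frs.all (frOK C) = true := (all_cons frr_0 (all_cons frr_1 (all_cons frr_2 (all_cons frr_3 (all_cons frr_4 (all_cons frr_5 (all_cons frr_6 (all_cons frr_7 (all_cons frr_8 (all_cons frr_9 (all_cons frr_10 (all_cons frr_11 (all_cons frr_12 (all_cons frr_13 (all_cons frr_14 (all_cons frr_15 (all_cons frr_16 (all_cons frr_17 (all_cons frr_18 (all_cons frr_19 (all_cons frr_20 (all_cons frr_21 (all_cons frr_22 (all_cons frr_23 (all_cons frr_24 (all_cons frr_25 (all_cons frr_26 (all_cons frr_27 (all_cons frr_28 (all_cons frr_29 (all_cons frr_30 (all_cons frr_31 (all_cons frr_32 (all_cons frr_33 (all_cons frr_34 (all_cons frr_35 (all_cons frr_36 (all_cons frr_37 (all_cons frr_38 (all_cons frr_39 (all_cons frr_40 (all_cons frr_41 (all_cons frr_42 (all_cons frr_43 (all_cons frr_44 (all_cons frr_45 (all_cons frr_46 (all_cons frr_47 (all_cons frr_48 (all_cons frr_49 (all_cons frr_50 (all_cons frr_51 all_nil))))))))))))))))))))))))))))))))))))))))))))))))))))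

theorem tgs_ok : runT C M_0 C.targets = true := (run_cons tgr_0 rfl rfl (run_cons tgr_1 rfl rfl (run_cons tgr_2 rfl rfl (run_cons tgr_3 rfl rfl (run_cons tgr_4 rfl rfl (run_cons tgr_5 rfl rfl (run_cons tgr_6 rfl rfl (run_cons tgr_7 rfl rfl (run_cons tgr_8 rfl rfl (run_cons tgr_9 rfl rfl (run_cons tgr_10 rfl rfl (run_cons tgr_11 rfl rfl (run_cons tgr_12 rfl rfl (run_cons tgr_13 rfl rfl (run_cons tgr_14 rfl rfl (run_cons tgr_15 rfl rfl (run_cons tgr_16 rfl rfl (run_cons tgr_17 rfl rfl (run_cons tgr_18 rfl rfl (run_cons tgr_19 rfl rfl (run_cons tgr_20 rfl rfl (run_cons tgr_21 rfl rfl (run_cons tgr_22 rfl rfl (run_cons tgr_23 rfl rfl (run_cons tgr_24 rfl rfl (run_cons tgr_25 rfl rfl (run_cons tgr_26 rfl rfl (run_cons tgr_27 rfl rfl (run_cons tgr_28 rfl rfl (run_cons tgr_29 rfl rfl (run_cons tgr_30 rfl rfl (run_cons tgr_31 rfl rfl (run_cons tgr_32 rfl rfl (run_cons tgr_33 rfl rfl (run_cons tgr_34 rfl rfl (run_cons tgr_35 rfl rfl (run_cons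 tgr_36 rfl rfl (run_cons tgr_37 rfl rfl (run_cons tgr_38 rfl rfl (run_cons tgr_39 rfl rfl (run_cons tgr_40 rfl rfl (run_cons tgr_41 rfl rfl (run_cons tgr_42 rfl rfl (run_cons tgr_43 rfl rfl (run_cons tgr_44 rfl rfl (run_cons tgr_45 rfl rfl (run_cons tgr_46 rfl rfl (run_cons tgr_47 rfl rfl (run_cons tgr_48 rfl rfl (run_cons tgr_49 rfl rfl (run_cons tgr_50 rfl rfl (run_cons tgr_51 rfl rfl (run_cons tgr_52 rfl rfl (run_cons tgr_53 rfl rfl (run_cons tgr_54 rfl rfl (run_cons tgr_55 rfl rfl (run_cons tgr_56 rfl rfl (run_cons tgr_57 rfl rfl (run_cons tgr_58 rfl rfl (run_cons tgr_59 rfl rfl (run_cons tgr_60 rfl rfl (run_cons tgr_61 rfl rfl (run_cons tgr_62 rfl rfl (run_cons tgr_63 rfl rfl (run_cons tgr_64 rfl rfl (run_cons tgr_65 rfl rfl (run_cons tgr_66 rfl rfl (run_cons tgr_67 rfl rfl (run_cons tgr_68 rfl rfl (run_cons tgr_69 rfl rfl (run_cons tgr_70 rfl rfl (run_cons tgr_71 rfl rfl (run_cons tgr_72 rfl rfl (run_cons tgr_73 rfl rfl (run_cons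 tgr_74 rfl rfl (run_cons tgr_75 rfl rfl (run_cons tgr_76 rfl rfl (run_cons tgr_77 rfl rfl (run_cons tgr_78 rfl rfl (run_cons tgr_79 rfl rfl (run_cons tgr_80 rfl rfl (run_cons tgr_81 rfl rfl (run_cons tgr_82 rfl rfl (run_cons tgr_83 rfl rfl (run_cons tgr_84 rfl rfl (run_cons tgr_85 rfl rfl (run_cons tgr_86 rfl rfl (run_cons tgr_87 rfl rfl (run_cons tgr_88 rfl rfl (run_cons tgr_89 rfl rfl (run_cons tgr_90 rfl rfl (run_cons tgr_91 rfl rfl (run_cons tgr_92 rfl rfl (run_cons tgr_93 rfl rfl (run_cons tgr_94 rfl rfl (run_cons tgr_95 rfl rfl (run_cons tgr_96 rfl rfl (run_cons tgr_97 rfl rfl (run_cons tgr_98 rfl rfl (run_cons tgr_99 rfl rfl (run_cons tgr_100 rfl rfl (run_cons tgr_101 rfl rfl (run_cons tgr_102 rfl rfl (run_cons tgr_103 rfl rfl (run_cons tgr_104 rfl rfl (run_cons tgr_105 rfl rfl (run_cons tgr_106 rfl rfl (run_cons tgr_107 rfl rfl (run_cons tgr_108 rfl rfl (run_cons tgr_109 rfl rfl (run_cons tgr_110 rfl rfl (run_cons tgr_111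 rfl rfl (run_cons tgr_112 rfl rfl (run_cons tgr_113 rfl rfl (run_cons tgr_114 rfl rfl (run_cons tgr_115 rfl rfl (run_cons tgr_116 rfl rfl (run_cons tgr_117 rfl rfl (run_cons tgr_118 rfl rfl (run_cons tgr_119 rfl rfl (run_cons tgr_120 rfl rfl (run_cons tgr_121 rfl rfl (run_cons tgr_122 rfl rfl (run_cons tgr_123 rfl rfl (run_cons tgr_124 rfl rfl (run_cons tgr_125 rfl rfl (run_cons tgr_126 rfl rfl (run_cons tgr_127 rfl rfl (run_cons tgr_128 rfl rfl (run_cons tgr_129 rfl rfl (run_cons tgr_130 rfl rfl (run_cons tgr_131 rfl rfl (run_cons tgr_132 rfl rfl (run_cons tgr_133 rfl rfl (run_cons tgr_134 rfl rfl (run_cons tgr_135 rfl rfl (run_cons tgr_136 rfl rfl (run_cons tgr_137 rfl rfl (run_cons tgr_138 rfl rfl (run_cons tgr_139 rfl rfl (run_cons tgr_140 rfl rfl (run_cons tgr_141 rfl rfl (run_cons tgr_142 rfl rfl (run_cons tgr_143 rfl rfl (run_cons tgr_144 rfl rfl (run_cons tgr_145 rfl rfl (run_cons tgr_146 rfl rfl (run_cons tgr_147 rfl rfl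 (run_cons tgr_148 rfl rfl (run_cons tgr_149 rfl rfl (run_cons tgr_150 rfl rfl (run_cons tgr_151 rfl rfl (run_cons tgr_152 rfl rfl (run_cons tgr_153 rfl rfl (run_cons tgr_154 rfl rfl (run_cons tgr_155 rfl rfl (run_cons tgr_156 rfl rfl (run_cons tgr_157 rfl rfl (run_cons tgr_158 rfl rfl (run_cons tgr_159 rfl rfl (run_cons tgr_160 rfl rfl (run_cons tgr_161 rfl rfl (run_cons tgr_162 rfl rfl (run_cons tgr_163 rfl rfl (run_cons tgr_164 rfl rfl (run_cons tgr_165 rfl rfl run_nil))))))))))))))))))))))))))))))))))))))))))))))))))))))))))))))))))))))))))))))))))))))))))))))))))))))))))))))))))))))))))))))))))))))))))))))))))))))))))))))))))))))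

theorem check_ok : checkF C = true := check_of tab_ok defs_ok ovs_ok frs_ok tgs_ok zok cov

theorem hL : wordsOK nU Ls = true := by decide +kernel

theorem hY : wordsOK nU Ys = true := by decide +kernel

theorem hrow : (List.range C.n).all (rowOK Sp Ls C) = true := by decide +kernel

theorem hitem : (List.range C.items.length).all (itemOK Sp Ls Ys C) = true := by decide +kernel

theorem hLv : lvOK Ls C.n Lv [] = true := by decide +kernel

theorem hprod : (Lv.map fun q => q.2.length).prod = C.p ^ C.n := by decide +kernel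

end Cfsg.Agent.Lib.ConwayP.Co2p2
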