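import Cfsg.Agent.Lib.ConwayP.Co2p2D
import Cfsg.Agent.Lib.ConwayP.PcFast

set_option autoImplicit false
set_option maxRecDepth 100000
set_option maxHeartbeats 0

namespace Cfsg.Agent.Lib.ConwayP.Co2p2

open Cfsg.Agent.Lib.Schur.PcMain Cfsg.Agent.Lib.ConwayP.PcFast

def M_0 : ℕ := 0

def M_1 : ℕ := M_0 ||| (1 <<< tg_0.1)

def M_2 : ℕ := M_1 ||| (1 <<< tg_1.1)

def M_3 : ℕ := M_2 ||| (1 <<< tg_2.1)

def M_4 : ℕ := M_3 ||| (1 <<< tg_3.1)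

def M_5 : ℕ := M_4 ||| (1 <<< tg_4.1)

def M_6 : ℕ := M_5 ||| (1 <<< tg_5.1)

def M_7 : ℕ := M_6 ||| (1 <<< tg_6.1)

def M_8 : ℕ := M_7 ||| (1 <<< tg_7.1)

def M_9 : ℕ := M_8 ||| (1 <<< tg_8.1)

def M_10 : ℕ := M_9 ||| (1 <<< tg_9.1)

def M_11 : ℕ := M_10 ||| (1 <<< tg_10.1)

def M_12 : ℕ := M_11 ||| (1 <<< tg_11.1)

def M_13 : ℕ := M_12 ||| (1 <<< tg_12.1)

def M_14 : ℕ := M_13 ||| (1 <<< tg_13.1)

def M_15 : ℕ := M_14 ||| (1 <<< tg_14.1)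

def M_16 : ℕ := M_15 ||| (1 <<< tg_15.1)

def M_17 : ℕ := M_16 ||| (1 <<< tg_16.1)

def M_18 : ℕ := M_17 ||| (1 <<< tg_17.1)

def M_19 : ℕ := M_18 ||| (1 <<< tg_18.1)

def M_20 : ℕ := M_19 ||| (1 <<< tg_19.1)

def M_21 : ℕ := M_20 ||| (1 <<< tg_20.1)

def M_22 : ℕ := M_21 ||| (1 <<< tg_21.1)

def M_23 : ℕ := M_22 ||| (1 <<< tg_22.1)

def M_24 : ℕ := M_23 ||| (1 <<< tg_23.1)

def M_25 : ℕ := M_24 ||| (1 <<< tg_24.1)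

def M_26 : ℕ := M_25 ||| (1 <<< tg_25.1)

def M_27 : ℕ := M_26 ||| (1 <<< tg_26.1)

def M_28 : ℕ := M_27 ||| (1 <<< tg_27.1)

def M_29 : ℕ := M_28 ||| (1 <<< tg_28.1)

def M_30 : ℕ := M_29 ||| (1 <<< tg_29.1)

def M_31 : ℕ := M_30 ||| (1 <<< tg_30.1)

def M_32 : ℕ := M_31 ||| (1 <<< tg_31.1)

def M_33 : ℕ := M_32 ||| (1 <<< tg_32.1)

def M_34 : ℕ := M_33 ||| (1 <<< tg_33.1)

def M_35 : ℕ := M_34 ||| (1 <<< tg_34.1)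

def M_36 : ℕ := M_35 ||| (1 <<< tg_35.1)

def M_37 : ℕ := M_36 ||| (1 <<< tg_36.1)

def M_38 : ℕ := M_37 ||| (1 <<< tg_37.1)

def M_39 : ℕ := M_38 ||| (1 <<< tg_38.1)

def M_40 : ℕ := M_39 ||| (1 <<< tg_39.1)

def M_41 : ℕ := M_40 ||| (1 <<< tg_40.1)

def M_42 : ℕ := M_41 ||| (1 <<< tg_41.1)

def M_43 : ℕ := M_42 ||| (1 <<< tg_42.1)

def M_44 : ℕ := M_43 ||| (1 <<< tg_43.1)

def M_45 : ℕ := M_44 ||| (1 <<< tg_44.1)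

def M_46 : ℕ := M_45 ||| (1 <<< tg_45.1)

def M_47 : ℕ := M_46 ||| (1 <<< tg_46.1)

def M_48 : ℕ := M_47 ||| (1 <<< tg_47.1)

def M_49 : ℕ := M_48 ||| (1 <<< tg_48.1)

def M_50 : ℕ := M_49 ||| (1 <<< tg_49.1)

def M_51 : ℕ := M_50 ||| (1 <<< tg_50.1)

def M_52 : ℕ := M_51 ||| (1 <<< tg_51.1)

def M_53 : ℕ := M_52 ||| (1 <<< tg_52.1)

def M_54 : ℕ := M_53 ||| (1 <<< tg_53.1)

def M_55 : ℕ := M_54 ||| (1 <<< tg_54.1)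

def M_56 : ℕ := M_55 ||| (1 <<< tg_55.1)

def M_57 : ℕ := M_56 ||| (1 <<< tg_56.1)

def M_58 : ℕ := M_57 ||| (1 <<< tg_57.1)

def M_59 : ℕ := M_58 ||| (1 <<< tg_58.1)

def M_60 : ℕ := M_59 ||| (1 <<< tg_59.1)

def M_61 : ℕ := M_60 ||| (1 <<< tg_60.1)

def M_62 : ℕ := M_61 ||| (1 <<< tg_61.1)

def M_63 : ℕ := M_62 ||| (1 <<< tg_62.1)

def M_64 : ℕ := M_63 ||| (1 <<< tg_63.1)

def M_65 : ℕ := M_64 ||| (1 <<< tg_64.1)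

def M_66 : ℕ := M_65 ||| (1 <<< tg_65.1)

def M_67 : ℕ := M_66 ||| (1 <<< tg_66.1)

def M_68 : ℕ := M_67 ||| (1 <<< tg_67.1)

def M_69 : ℕ := M_68 ||| (1 <<< tg_68.1)

def M_70 : ℕ := M_69 ||| (1 <<< tg_69.1)

def M_71 : ℕ := M_70 ||| (1 <<< tg_70.1)

def M_72 : ℕ := M_71 ||| (1 <<< tg_71.1)

def M_73 : ℕ := M_72 ||| (1 <<< tg_72.1)

def M_74 : ℕ := M_73 ||| (1 <<< tg_73.1)

def M_75 : ℕ := M_74 ||| (1 <<< tg_74.1)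

def M_76 : ℕ := M_75 ||| (1 <<< tg_75.1)

def M_77 : ℕ := M_76 ||| (1 <<< tg_76.1)

def M_78 : ℕ := M_77 ||| (1 <<< tg_77.1)

def M_79 : ℕ := M_78 ||| (1 <<< tg_78.1)

def M_80 : ℕ := M_79 ||| (1 <<< tg_79.1)

def M_81 : ℕ := M_80 ||| (1 <<< tg_80.1)

def M_82 : ℕ := M_81 ||| (1 <<< tg_81.1)

def M_83 : ℕ := M_82 ||| (1 <<< tg_82.1)

def M_84 : ℕ := M_83 ||| (1 <<< tg_83.1)

def M_85 : ℕ := M_84 ||| (1 <<< tg_84.1)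

def M_86 : ℕ := M_85 ||| (1 <<< tg_85.1)

def M_87 : ℕ := M_86 ||| (1 <<< tg_86.1)

def M_88 : ℕ := M_87 ||| (1 <<< tg_87.1)

def M_89 : ℕ := M_88 ||| (1 <<< tg_88.1)

def M_90 : ℕ := M_89 ||| (1 <<< tg_89.1)

def M_91 : ℕ := M_90 ||| (1 <<< tg_90.1)

def M_92 : ℕ := M_91 ||| (1 <<< tg_91.1)

def M_93 : ℕ := M_92 ||| (1 <<< tg_92.1)

def M_94 : ℕ := M_93 ||| (1 <<< tg_93.1)

def M_95 : ℕ := M_94 ||| (1 <<< tg_94.1)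

def M_96 : ℕ := M_95 ||| (1 <<< tg_95.1)

def M_97 : ℕ := M_96 ||| (1 <<< tg_96.1)

def M_98 : ℕ := M_97 ||| (1 <<< tg_97.1)

def M_99 : ℕ := M_98 ||| (1 <<< tg_98.1)

def M_100 : ℕ := M_99 ||| (1 <<< tg_99.1)

def M_101 : ℕ := M_100 ||| (1 <<< tg_100.1)

def M_102 : ℕ := M_101 ||| (1 <<< tg_101.1)

def M_103 : ℕ := M_102 ||| (1 <<< tg_102.1)

def M_104 : ℕ := M_103 ||| (1 <<< tg_103.1)

def M_105 : ℕ := M_104 ||| (1 <<< tg_104.1)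

def M_106 : ℕ := M_105 ||| (1 <<< tg_105.1)

def M_107 : ℕ := M_106 ||| (1 <<< tg_106.1)

def M_108 : ℕ := M_107 ||| (1 <<< tg_107.1)

def M_109 : ℕ := M_108 ||| (1 <<< tg_108.1)

def M_110 : ℕ := M_109 ||| (1 <<< tg_109.1)

def M_111 : ℕ := M_110 ||| (1 <<< tg_110.1)

def M_112 : ℕ := M_111 ||| (1 <<< tg_111.1)

def M_113 : ℕ := M_112 ||| (1 <<< tg_112.1)

def M_114 : ℕ := M_113 ||| (1 <<< tg_113.1)

def M_115 : ℕ := M_114 ||| (1 <<< tg_114.1)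

def M_116 : ℕ := M_115 ||| (1 <<< tg_115.1)

def M_117 : ℕ := M_116 ||| (1 <<< tg_116.1)

def M_118 : ℕ := M_117 ||| (1 <<< tg_117.1)

def M_119 : ℕ := M_118 ||| (1 <<< tg_118.1)

def M_120 : ℕ := M_119 ||| (1 <<< tg_119.1)

def M_121 : ℕ := M_120 ||| (1 <<< tg_120.1)

def M_122 : ℕ := M_121 ||| (1 <<< tg_121.1)

def M_123 : ℕ := M_122 ||| (1 <<< tg_122.1)

def M_124 : ℕ := M_123 ||| (1 <<< tg_123.1)

def M_125 : ℕ := M_124 ||| (1 <<< tg_124.1)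

def M_126 : ℕ := M_125 ||| (1 <<< tg_125.1)

def M_127 : ℕ := M_126 ||| (1 <<< tg_126.1)

def M_128 : ℕ := M_127 ||| (1 <<< tg_127.1)

def M_129 : ℕ := M_128 ||| (1 <<< tg_128.1)

def M_130 : ℕ := M_129 ||| (1 <<< tg_129.1)

def M_131 : ℕ := M_130 ||| (1 <<< tg_130.1)

def M_132 : ℕ := M_131 ||| (1 <<< tg_131.1)

def M_133 : ℕ := M_132 ||| (1 <<< tg_132.1)

def M_134 : ℕ := M_133 ||| (1 <<< tg_133.1)

def M_135 : ℕ := M_134 ||| (1 <<< tg_134.1)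

def M_136 : ℕ := M_135 ||| (1 <<< tg_135.1)

def M_137 : ℕ := M_136 ||| (1 <<< tg_136.1)

def M_138 : ℕ := M_137 ||| (1 <<< tg_137.1)

def M_139 : ℕ := M_138 ||| (1 <<< tg_138.1)

def M_140 : ℕ := M_139 ||| (1 <<< tg_139.1)

def M_141 : ℕ := M_140 ||| (1 <<< tg_140.1)

def M_142 : ℕ := M_141 ||| (1 <<< tg_141.1)

def M_143 : ℕ := M_142 ||| (1 <<< tg_142.1)

def M_144 : ℕ := M_143 ||| (1 <<< tg_143.1)

def M_145 : ℕ := M_144 ||| (1 <<< tg_144.1)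

def M_146 : ℕ := M_145 ||| (1 <<< tg_145.1)

def M_147 : ℕ := M_146 ||| (1 <<< tg_146.1)

def M_148 : ℕ := M_147 ||| (1 <<< tg_147.1)

def M_149 : ℕ := M_148 ||| (1 <<< tg_148.1)

def M_150 : ℕ := M_149 ||| (1 <<< tg_149.1)

def M_151 : ℕ := M_150 ||| (1 <<< tg_150.1)

def M_152 : ℕ := M_151 ||| (1 <<< tg_151.1)

def M_153 : ℕ := M_152 ||| (1 <<< tg_152.1)

def M_154 : ℕ := M_153 ||| (1 <<< tg_153.1)

def M_155 : ℕ := M_154 ||| (1 <<< tg_154.1)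

def M_156 : ℕ := M_155 ||| (1 <<< tg_155.1)

def M_157 : ℕ := M_156 ||| (1 <<< tg_156.1)

def M_158 : ℕ := M_157 ||| (1 <<< tg_157.1)

def M_159 : ℕ := M_158 ||| (1 <<< tg_158.1)

def M_160 : ℕ := M_159 ||| (1 <<< tg_159.1)

def M_161 : ℕ := M_160 ||| (1 <<< tg_160.1)

def M_162 : ℕ := M_161 ||| (1 <<< tg_161.1)

def M_163 : ℕ := M_162 ||| (1 <<< tg_162.1)

def M_164 : ℕ := M_163 ||| (1 <<< tg_163.1)

def M_165 : ℕ := M_164 ||| (1 <<< tg_164.1)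

def M_166 : ℕ := M_165 ||| (1 <<< tg_165.1)


end Cfsg.Agent.Lib.ConwayP.Co2p2
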