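import Cfsg.Agent.Lib.ConwayP.Co2Base
import Cfsg.Agent.Lib.Schur.PcPerm

/-!
# A tail certificate for a Sylow 3-subgroup of `Co₂`
-/

set_option autoImplicit false
set_option maxRecDepth 100000
set_option maxHeartbeats 0

namespace Cfsg.Agent.Lib.ConwayP.Co2p3

open Cfsg.Agent.Lib.Schur.PcMain Cfsg.Agent.Lib.ConwayP.LatPc Cfsg.Agent.Lib.ConwayP.LatSpan Cfsg.Agent.Lib.ConwayP.Co2Base

def rule_0 : List (List ℕ) := [[5]]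

def rule_1 : List (List ℕ) := [[1, 3], [5, 5]]

def rule_2 : List (List ℕ) := [[2, 4], [2, 3, 4, 4, 5, 5], [5]]

def rule_3 : List (List ℕ) := [[3, 5], [3, 5], [3, 5], []]

def rule_4 : List (List ℕ) := [[4, 5], [4, 5], [4], [4], []]

def rule_5 : List (List ℕ) := [[5], [5], [5], [5], [5], []]

def item_0 : List (List ℕ) × List (List ℕ) := ([[0], [1], [2], [3, 3, 4, 5, 5], [3, 5, 5], [5, 5]], [[1, 4, 5, 5], [0, 3, 3, 4, 4, 5], [0, 1, 1, 2, 4, 4, 5], [3, 4, 4, 5, 5], [3, 3, 5], [5]])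

def item_1 : List (List ℕ) × List (List ℕ) := ([[0], [1], [2], [3, 3, 4, 5, 5], [3, 5, 5], [5, 5]], [[0, 1, 2, 4, 4, 5, 5], [0, 0, 2, 3, 5, 5], [0, 1, 1, 2, 4, 5], [3, 5, 5], [3, 3, 4, 5], [5]])

def item_2 : List (List ℕ) × List (List ℕ) := ([[0], [1], [2], [3, 3, 4, 5, 5], [3, 5, 5], [5, 5]], [[1, 1, 3, 5], [0, 0, 3, 3, 5], [0, 0, 1, 1, 2, 5, 5], [3, 3, 4, 5, 5], [3, 3], [5, 5]])

def ov_0 : List ℕ × ℕ × ℕ × List (ℕ × ℤ) := ([2, 1, 0], 0, 1, [(3000, 1), (3002, 1), (4000, 2), (4001, -1), (4003, 1), (5000, 2), (5003, 1), (5004, 1), (5005, 1)])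

def ov_1 : List ℕ × ℕ × ℕ × List (ℕ × ℤ) := ([3, 1, 0], 0, 1, [(5000, 1), (5001, -1), (5003, -2)])

def ov_2 : List ℕ × ℕ × ℕ × List (ℕ × ℤ) := ([3, 2, 0], 0, 1, [(4003, 1), (5000, 1), (5002, -1), (5004, -2)])

def ov_3 : List ℕ × ℕ × ℕ × List (ℕ × ℤ) := ([4, 2, 0], 0, 1, [(5002, -1), (5004, -1)])

def ov_4 : List ℕ × ℕ × ℕ × List (ℕ × ℤ) := ([4, 2, 1], 0, 1, [(4003, -1), (5002, -1), (5003, -1)])

def ov_5 : List ℕ × ℕ × ℕ × List (ℕ × ℤ) := ([4, 3, 0], 0, 1, [(5003, -1), (5004, 1)])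

def ov_6 : List ℕ × ℕ × ℕ × List (ℕ × ℤ) := ([4, 3, 2], 0, 1, [(5004, 1)])

def ov_7 : List ℕ × ℕ × ℕ × List (ℕ × ℤ) := ([1, 0, 0, 0], 0, 1, [(1000, 3), (3000, 3), (3003, 1), (5000, 1), (5001, 1), (5003, 4), (5005, 1)])

def ov_8 : List ℕ × ℕ × ℕ × List (ℕ × ℤ) := ([2, 2, 2, 0], 0, 2, [(2000, -3), (4002, -3), (4004, -1), (5000, 1), (5004, -3)])

def ov_9 : List ℕ × ℕ × ℕ × List (ℕ × ℤ) := ([2, 0, 0, 0], 0, 1, [(2000, 3), (4000, 3), (4004, 1), (5000, 1), (5002, 1), (5004, 4), (5005, 1)])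

def ov_10 : List ℕ × ℕ × ℕ × List (ℕ × ℤ) := ([3, 3, 3, 0], 0, 2, [(3000, -3), (5003, -3), (5005, -1)])

def ov_11 : List ℕ × ℕ × ℕ × List (ℕ × ℤ) := ([4, 4, 4, 2], 0, 2, [(4002, -3)])

def fr_0 : ℕ × List ℕ × List ℕ × List (ℕ × ℤ) := (0, [3, 0], [0, 3], [(3000, -2), (3001, 1), (4000, -1), (4001, 2), (4003, -1), (5000, -2), (5001, 2), (5003, -3), (5004, -1)])

def fr_1 : ℕ × List ℕ × List ℕ × List (ℕ × ℤ) := (0, [3, 2], [2, 3, 5], [(3000, 1), (3001, 2), (3002, -1), (4000, 2), (4001, 4), (4002, 1), (4003, -2), (5000, 2), (5001, 4), (5003, -2), (5004, 7), (5005, 3), (1000005, -1)])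

def fr_2 : ℕ × List ℕ × List ℕ × List (ℕ × ℤ) := (0, [4, 2], [2, 4, 5, 5], [(3000, 2), (3001, 4), (3002, 1), (4003, -4), (5000, 1), (5001, 2), (5002, -1), (5003, 2), (5005, 3), (1000005, -2)])

def fr_3 : ℕ × List ℕ × List ℕ × List (ℕ × ℤ) := (1, [1, 0], [0, 1, 4, 5, 5], [(1000, -3), (2000, -1), (2001, 1), (3001, 1), (3002, -2), (3003, -1), (4000, -2), (4001, 1), (4002, -1), (4003, -1), (5000, -2), (5003, -1), (5004, -5), (5005, 1), (1001004, -1), (1001005, -2)])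

def fr_4 : ℕ × List ℕ × List ℕ × List (ℕ × ℤ) := (1, [2, 0], [0, 2, 3, 4, 5], [(1000, 1), (2000, -1), (2001, -1), (3002, 1), (4000, -1), (4003, -7), (4004, -1), (5000, -1), (5001, -2), (5002, 1), (5003, -2), (5004, -4), (1001003, -1), (1001004, -1), (1001005, -1)])

def fr_5 : ℕ × List ℕ × List ℕ × List (ℕ × ℤ) := (1, [2, 1], [1, 2, 3, 3, 5, 5], [(1000, 4), (2000, 1), (2001, -3), (3000, 1), (3001, -1), (3002, 5), (3003, 1), (4000, 3), (4001, -1), (4002, -2), (4003, -3), (4004, -1), (5000, 1), (5001, -1), (5002, 3), (5003, 9), (5004, 3), (5005, 1), (1001003, -2), (1001005, -2)])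

def fr_6 : ℕ × List ℕ × List ℕ × List (ℕ × ℤ) := (1, [3, 0], [0, 3], [(3000, -1), (3001, 1), (3002, 1), (4000, -1), (4003, -2), (5002, 1), (5003, -3), (5004, 2)])

def fr_7 : ℕ × List ℕ × List ℕ × List (ℕ × ℤ) := (1, [3, 2], [2, 3, 5], [(3000, 1), (3001, 2), (3002, -1), (4002, -1), (4003, -1), (5000, 2), (5001, 1), (5003, -2), (5004, -2), (5005, 1), (1001005, -1)])

def fr_8 : ℕ × List ℕ × List ℕ × List (ℕ × ℤ) := (2, [3, 2], [2, 3, 5], [(3000, 4), (3001, 4), (4000, 2), (4001, 2), (5000, 4), (5001, 4), (5004, 6), (5005, 4), (1002005, -1)])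

def fr_9 : ℕ × List ℕ × List ℕ × List (ℕ × ℤ) := (2, [4, 1], [1, 4, 5, 5], [(3000, 4), (3001, -1), (5000, 2), (5001, -2), (5003, 2), (5005, 1), (1002005, -2)])

def tg_0 : ℕ × ℤ × List (ℕ × ℤ) := (1000, 0, [(0, 1)])

def tg_1 : ℕ × ℤ × List (ℕ × ℤ) := (2000, 0, [(1, 1)])

def tg_2 : ℕ × ℤ × List (ℕ × ℤ) := (3000, 0, [(2, 1)])

def tg_3 : ℕ × ℤ × List (ℕ × ℤ) := (5004, 0, [(9, 1)])

def tg_4 : ℕ × ℤ × List (ℕ × ℤ) := (5002, 0, [(6, -1)])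

def tg_5 : ℕ × ℤ × List (ℕ × ℤ) := (5003, 0, [(8, -1)])

def tg_6 : ℕ × ℤ × List (ℕ × ℤ) := (4003, 0, [(7, -1)])

def tg_7 : ℕ × ℤ × List (ℕ × ℤ) := (5000, 0, [(5, 1)])

def tg_8 : ℕ × ℤ × List (ℕ × ℤ) := (5001, 0, [(4, -1)])

def tg_9 : ℕ × ℤ × List (ℕ × ℤ) := (5005, 0, [(13, -1)])

def tg_10 : ℕ × ℤ × List (ℕ × ℤ) := (3003, 0, [(10, 1)])

def tg_11 : ℕ × ℤ × List (ℕ × ℤ) := (4002, 0, [(3, 2), (14, -1), (15, 5), (16, -2), (17, 1), (21, -5)])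

def tg_12 : ℕ × ℤ × List (ℕ × ℤ) := (4004, 0, [(11, -1)])

def tg_13 : ℕ × ℤ × List (ℕ × ℤ) := (4000, 0, [(3, -42), (11, 14), (12, 14), (15, -75), (16, 28), (17, -14), (21, 84), (23, -2), (24, 1)])

def tg_14 : ℕ × ℤ × List (ℕ × ℤ) := (3002, 0, [(3, 2), (15, 1), (21, -1)])

def tg_15 : ℕ × ℤ × List (ℕ × ℤ) := (3001, 0, [(3, -2), (15, -1), (21, 2)])

def tg_16 : ℕ × ℤ × List (ℕ × ℤ) := (2001, 0, [(3, -21), (11, 1), (15, -11), (18, 2), (19, -2), (20, 1), (21, 18), (22, -4)])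

def tg_17 : ℕ × ℤ × List (ℕ × ℤ) := (4001, 0, [(3, 1), (15, 1), (21, -1)])

def C : Cert where
  p := 3
  n := 6
  r := 3
  fuel := 71
  rules := [rule_0, rule_1, rule_2, rule_3, rule_4, rule_5]
  defs := [(1, 0), (2, 0), (3, 0)]
  items := [item_0, item_1, item_2]
  ovs := [ov_0, ov_1, ov_2, ov_3, ov_4, ov_5, ov_6, ov_7, ov_8, ov_9, ov_10, ov_11]
  frs := [fr_0, fr_1, fr_2, fr_3, fr_4, fr_5, fr_6, fr_7, fr_8, fr_9]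
  k0 := 1000
  zm := 1
  zcomb := [(0, 1)]
  targets := [tg_0, tg_1, tg_2, tg_3, tg_4, tg_5, tg_6, tg_7, tg_8, tg_9, tg_10, tg_11, tg_12, tg_13, tg_14, tg_15, tg_16, tg_17]

/-- The letters. -/
def Ls : List (List (ℕ × ℕ)) := [[(979360914371488889240221363885613230, 5581371), (0, 0), (315455012037926492955961838511859174, 7619997), (0, 0), (664739067312111693086133150982748722, 12495071), (0, 0), (634052261760897786348797746418964035, 13571384)], [(252383192326289924743344309635907977, 12903884), (0, 0), (679195319857281935643201974404780581, 13153671), (0, 0), (379565413892308720464325174278281445, 7680460), (0, 0), (419385092965360727950564415195825728, 10851514)], [(179608404077430289017052464235577933, 3478205), (0, 0), (773264772803395812989262995916136848, 1839388), (0, 0), (810574644266799363079575367358652906, 7993566),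 (0, 0), (51154905504898613583913681261592776, 14254209), (0, 0), (47282482856561658494956290764445390, 12713901), (0, 0), (28901945067164899668837323457578391, 1431280)], [(263537811046153418589568947395803304, 7305720), (0, 0), (342149719827469109711044167619784365, 13788394), (0, 0), (892101877382814758197824265471050318, 10537016), (0, 0), (984451768506482706715690269436918865, 12580272)], [(251304782073631065257343973633599840, 6174932), (0, 0), (391654011641366476222365168965370511, 15302361), (0, 0), (608217769366639957849187773427357202, 168928)], [(583306260196583828025258137791043702, 895452), (0, 0), (253843626220066693404285346402124083, 13757574), (0, 0), (444680785079322496482882005546173891, 10426563), (0, 0), (901492441905886823835236124953068823, 587102), (0, 0), (883060762959617692926564667138710260, 8421811),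 (0, 0), (772640310803587896985964900117884035, 13192208), (0, 0), (860746582606780735523042944301042070, 8029750)]]

/-- The conjugating elements. -/
def Ys : List (List (ℕ × ℕ)) := [[(319867642890638281285059497603419818, 16518353), (0, 0), (185117087182605021694846721282615409, 13581318), (0, 0), (594990961466558153177106508153144901, 877305)], [(252786074147758060606938153203871753, 6429441), (0, 0), (337795221023259626017583797248250434, 10098237), (0, 0), (476805314146327610530366970156800689, 663036), (0, 0), (591450932019813779425629109914997897, 190626), (0, 0), (590840623036728656029988002344744641, 15696649)], [(653769421035138805905164837056874931, 160251), (0, 0), (955848546765349793385654730925280903, 15916005), (0, 0), (842918807368651888141998210020382192, 10646246), (0, 0), (860746582606780735523042944301042070,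 8029750)]]

/-- The orbits. -/
def Lv : List (ℕ × List (List ℕ)) := [(812008231296024801904414350045070897, [[1, 1], [0, 0, 1, 1, 2, 2, 4, 5, 5], [1, 1, 2, 2, 5], [0, 1, 1, 2, 3, 3, 4], [0, 1, 3, 5, 5], [0, 0, 2, 2, 4, 4], [1, 1, 3, 4, 4, 5], [1, 1, 2, 5], [2, 3, 3, 4, 4, 5], [0, 2, 2, 3, 5, 5], [0, 1, 2, 2, 3, 3, 4], [0, 1, 3, 4, 4, 5, 5], [0, 0, 2, 3, 3, 4, 5], [1, 1, 3, 4, 5], [1, 2, 2, 3, 4, 4, 5, 5], [0, 1, 2, 4, 4], [2, 3, 3, 4], [0, 0, 3, 5, 5], [0, 0, 1, 3, 4, 5, 5], [2, 2, 3, 3, 5], [0, 4, 4], [1, 2, 4, 5], [0, 1, 2, 4, 5, 5], [0, 0, 2, 2, 3, 3, 4, 4, 5], [0, 0, 1, 3, 4, 4, 5, 5], [0, 1, 2, 2, 3, 4, 4], [0, 0, 1, 3, 3], [2, 2, 3, 4, 4, 5], [1, 2, 3, 4, 5], [0, 0, 2, 2, 3, 4], [0, 1, 1, 2, 3, 5, 5], [0, 1, 1, 4, 4], [0, 2, 3, 3, 4], [0, 0, 1, 3, 4, 4], [0, 1, 1, 4, 5, 5], [0, 3, 4, 5], [1, 1, 4, 4, 5, 5], [1, 4], [0,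 0, 2, 5, 5], [2, 2, 3, 4], [0, 0, 1, 1, 2, 4, 5, 5], [0, 2, 2, 4, 4, 5], [0, 0, 1, 1, 2, 2, 3, 3, 5], [0, 2, 4, 4], [0, 0, 1, 2, 2, 3, 3, 4, 4, 5, 5], [0, 1, 1, 2, 2, 3, 4, 4, 5], [0, 1, 2, 3, 4, 5], [0, 1, 2, 2, 4, 5, 5], [1, 1, 2, 2, 3, 3, 4, 5], [0, 0, 2, 3, 3, 4, 4, 5, 5], [0, 0, 1, 1, 2, 5, 5], [1, 2, 2, 5, 5], [2, 2, 5], [1, 3, 3], [1, 4, 4, 5], [0, 0, 1, 1, 2, 4, 4, 5], [0, 2, 2, 4, 5, 5], [1], [0, 4], [1, 1, 2, 3, 4, 4], [1, 1, 2, 4, 4, 5], [0, 1, 1, 2, 3, 4, 4, 5, 5], [1, 2, 5], [0, 0, 1, 1, 4, 4, 5], [0, 2, 3, 5], [1, 1, 4, 5], [0], [0, 0, 2, 2, 3, 3, 5, 5], [0, 0, 1, 2, 3, 3, 5, 5], [4, 4], [3], [1, 1, 3, 3, 5], [1, 1, 3, 3, 4, 5], [0, 0, 1, 4, 4], [0, 1, 1, 2, 5], [0, 1, 1, 2, 5, 5], [0, 1, 1, 2, 2, 3, 3, 4, 4, 5], [0, 2, 2, 3, 3, 5, 5], [0, 2, 2, 3, 3, 4], [0, 0, 1, 2, 2, 3, 5], [0, 1, 1, 2, 2, 3, 4], [2, 5], [2,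 2, 4, 5], [0, 2, 3, 3, 5, 5], [1, 1, 2, 3, 3, 4, 5], [0, 0, 1, 3, 3, 4, 4], [1, 3, 3, 4, 5], [0, 0, 2, 2, 5, 5], [0, 2, 2, 3, 3, 4, 4, 5], [0, 1, 1, 2, 3, 4, 5, 5], [2, 5, 5], [0, 5], [0, 0, 1, 2, 4, 4, 5], [0, 3, 5], [0, 0, 1, 1, 2, 3, 4, 4, 5], [2, 3, 4], [0, 2, 2, 3, 3, 4, 5, 5], [0, 1, 1, 2, 2, 5], [0, 1, 2, 3, 3, 5], [0, 0, 3, 3, 4, 4, 5], [0, 1, 1, 3, 3], [0, 2, 2, 3, 3, 4, 4], [0, 0, 1, 2, 2, 3, 3, 4, 5], [3, 3, 4, 4, 5, 5], [0, 0, 3, 4], [0, 1, 4, 5, 5], [0, 0, 1, 3, 3, 4, 5], [0, 0, 1, 1, 3, 3], [0, 0, 1, 1, 2, 3, 3, 4, 5, 5], [2, 2, 4, 4], [1, 2, 3, 4], [0, 0, 1, 1, 2, 2, 3, 3, 4, 5], [1, 4, 4], [0, 1, 1, 2, 2, 4, 4], [0, 1, 1, 2, 4, 4], [0, 1, 1, 5, 5], [1, 2, 2, 3, 3, 4, 4, 5, 5], [0, 0, 1, 1, 2, 2, 3, 3, 4, 4, 5, 5], [0, 1, 2, 3, 4, 4], [0, 1, 1, 3, 4, 5, 5], [0, 0, 2, 2, 3, 4, 5], [0, 1, 1, 2, 3], [1, 2, 2, 3, 3],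 [0, 1, 1, 2, 2, 3, 3, 4, 5, 5], [1, 2, 3, 3, 5], [0, 0, 1, 1, 4, 5], [2, 3], [1, 1, 2, 2, 3, 3, 5, 5], [0, 2], [0, 1, 3, 3, 5, 5], [1, 1, 2, 2, 3, 3, 5], [0, 1, 2, 2, 3, 3], [0, 1, 2, 2, 3, 3, 4, 4], [1, 2, 4, 4], [0, 1, 2, 3, 4, 4, 5], [0, 4, 4, 5], [0, 0, 2, 3, 4], [1, 2, 4], [2, 2, 4], [1, 3, 3, 5, 5], [0, 0, 1, 3, 3, 5, 5], [0, 0, 1, 3, 4, 5], [0, 1, 2, 2, 3, 4, 4, 5, 5], [0, 0, 2], [3, 4, 5], [0, 1, 1, 4, 4, 5], [2, 2, 3, 3, 5, 5], [1, 1, 2, 3, 5, 5], [0, 4, 5], [1, 2, 3, 5], [0, 0, 1, 2, 2, 5], [0, 0, 1, 1, 2, 3, 3, 4, 5], [0, 3, 5, 5], [0, 1, 1, 2, 2, 4, 5, 5], [0, 0, 1, 1, 3], [1, 1, 2, 3, 4, 5], [1, 2, 2, 3, 5], [0, 0, 1, 1, 2, 2, 3, 5], [2, 2], [0, 0, 2, 4, 4, 5], [2, 3, 3, 4, 5, 5], [1, 1, 3, 3, 4, 5, 5], [0, 1, 1, 2, 2, 4, 5], [0, 2, 3, 5, 5], [2, 2, 3, 3, 4, 5], [1, 1, 3, 3, 4, 4, 5, 5], [0, 0, 1, 2, 3, 4, 5], [1,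 1, 2, 2, 3, 4, 5, 5], [0, 0, 1, 1, 2, 2, 4, 4], [0, 1, 2, 5, 5], [1, 3, 3, 5], [2, 2, 4, 4, 5, 5], [1, 1, 2, 2, 3, 5, 5], [2], [0, 0, 2, 5], [0, 1, 1], [2, 2, 3], [0, 0, 1, 1, 2, 2, 3, 4, 5], [0, 0, 1, 1, 2, 3, 3, 4, 4], [0, 0, 1, 3, 5, 5], [0, 0, 2, 3, 3, 4], [0, 0, 4], [3, 3, 5], [0, 0, 3, 5], [2, 3, 3, 5], [0, 1, 1, 3, 3, 4, 4], [1, 1, 3, 3], [0, 1, 2, 2, 3, 5], [2, 3, 3, 4, 5], [1, 1, 2, 2, 4, 4, 5, 5], [2, 4, 5], [0, 1, 1, 3, 3, 4, 5, 5], [0, 1, 2, 2, 4, 4, 5], [0, 0], [0, 3, 3, 4, 4, 5], [0, 2, 4, 5, 5], [0, 1, 2, 4, 5], [0, 2, 2, 3, 4, 4, 5], [0, 1, 4, 4, 5], [1, 1, 3, 4, 4], [0, 1, 2, 2, 4, 4, 5, 5], [1, 2, 3, 3, 4, 4, 5, 5], [1, 1, 4, 5, 5], [1, 1, 3, 5], [1, 1, 2, 3, 3, 4, 4, 5], [0, 3, 3, 4, 5], [0, 0, 1, 1, 2, 2, 3, 3, 4], [0, 0, 1, 1, 2, 2, 4], [1, 1, 2, 3, 4], [1, 2, 4, 5, 5], [0, 0, 1, 1, 2, 2, 3, 3, 4, 4], [1,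 3, 4], [0, 0, 2, 4], [0, 2, 3, 4, 5, 5], [0, 0, 2, 2, 3, 3, 4, 4, 5, 5], [0, 0, 1, 2, 5], [0, 0, 1, 1, 2, 2, 4, 5], [0, 1, 2, 2, 3, 3, 4, 5, 5], [0, 0, 1, 2, 2, 3, 3, 5, 5], [0, 0, 1, 2, 4, 5, 5], [0, 1, 2, 2, 3, 4, 5, 5], [0, 0, 1, 2, 3, 4, 5, 5], [1, 1, 2, 2], [0, 4, 4, 5, 5], [0, 1, 4], [0, 3, 4], [3, 3, 4, 4], [2, 3, 3], [0, 0, 2, 4, 4], [0, 1, 1, 2, 2, 4, 4, 5, 5], [0, 2, 2, 3], [0, 1, 4, 4], [1, 2, 3, 4, 5, 5], [0, 0, 1, 3, 4], [0, 1, 1, 2], [1, 4, 5, 5], [0, 0, 1, 1, 2, 2, 3, 3], [1, 1, 2, 3, 3, 5, 5], [0, 0, 1, 1, 2], [0, 0, 2, 2, 4, 5], [2, 2, 3, 3, 4, 4, 5, 5], [4, 5], [1, 1, 3, 4, 5, 5]]), (811927022349585451590227490722332209, [[0, 0, 1, 3, 4], [0, 1, 1, 3, 4, 4, 5], []])]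

theorem check_ok : C.check = true := by decide +kernel

theorem hL : wordsOK nU Ls = true := by decide +kernel

theorem hY : wordsOK nU Ys = true := by decide +kernel

theorem hrow : (List.range C.n).all (rowOK Sp Ls C) = true := by decide +kernel

theorem hitem : (List.range C.items.length).all (itemOK Sp Ls Ys C) = true := by decide +kernel

theorem hLv : lvOK Ls C.n Lv [] = true := by decide +kernel

theorem hprod : (Lv.map fun q => q.2.length).prod = C.p ^ C.n := by decide +kernel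

end Cfsg.Agent.Lib.ConwayP.Co2p3
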