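import Cfsg.Agent.Lib.ConwayP.Co2Base
import Cfsg.Agent.Lib.Schur.PcPerm

/-!
# A tail certificate for a Sylow 5-subgroup of `Co₂`
-/

set_option autoImplicit false
set_option maxRecDepth 100000
set_option maxHeartbeats 0

namespace Cfsg.Agent.Lib.ConwayP.Co2p5

open Cfsg.Agent.Lib.Schur.PcMain Cfsg.Agent.Lib.ConwayP.LatPc Cfsg.Agent.Lib.ConwayP.LatSpan Cfsg.Agent.Lib.ConwayP.Co2Base

def rule_0 : List (List ℕ) := [[]]

def rule_1 : List (List ℕ) := [[1, 2], []]

def rule_2 : List (List ℕ) := [[2], [2], []]

def item_0 : List (List ℕ) × List (List ℕ) := ([[0], [1], [2, 2]], [[0], [0, 1, 1, 1, 1], [2, 2, 2]])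

def item_1 : List (List ℕ) × List (List ℕ) := ([[0], [1], [2, 2]], [[0, 0, 0, 0, 2, 2, 2, 2], [0, 0, 0, 0, 1, 2, 2, 2, 2], [2, 2, 2]])

def ov_0 : List ℕ × ℕ × ℕ × List (ℕ × ℤ) := ([1, 0, 0, 0, 0, 0], 0, 1, [(1000, 5), (2000, 10), (2002, 1)])

def fr_0 : ℕ × List ℕ × List ℕ × List (ℕ × ℤ) := (0, [2, 0], [0, 2], [(2000, 1)])

def fr_1 : ℕ × List ℕ × List ℕ × List (ℕ × ℤ) := (1, [2, 1], [1, 2], [(2000, 12), (2001, 1)])

def tg_0 : ℕ × ℤ × List (ℕ × ℤ) := (1000, 0, [(0, 1)])

def tg_1 : ℕ × ℤ × List (ℕ × ℤ) := (2000, 0, [(2, 1)])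

def tg_2 : ℕ × ℤ × List (ℕ × ℤ) := (2002, 0, [(1, 1)])

def tg_3 : ℕ × ℤ × List (ℕ × ℤ) := (2001, 0, [(3, 1)])

def C : Cert where
  p := 5
  n := 3
  r := 2
  fuel := 18
  rules := [rule_0, rule_1, rule_2]
  defs := [(1, 0)]
  items := [item_0, item_1]
  ovs := [ov_0]
  frs := [fr_0, fr_1]
  k0 := 1000
  zm := 1
  zcomb := [(0, 1)]
  targets := [tg_0, tg_1, tg_2, tg_3]

/-- The letters. -/
def Ls : List (List (ℕ × ℕ)) := [[(558526202544048901695621518852113076, 7435970), (0, 0), (424839881351153255913423191800420753, 16456713), (0, 0), (594990961466558153177106508153144901, 877305)], [(955590894499958026444338572826418703, 14537488), (0, 0), (131107408745579228368852414328358039, 2150610), (0, 0), (583700395537478366812915333398641782, 895452), (0, 0), (272934338252302126955778694900113071, 3410225), (0, 0), (111884798526488376692992410680397047, 2067951), (0, 0), (109371650220977931218388825068284388, 8183582), (0, 0), (812819153531088374036287761685295330, 8834052), (0, 0), (854363922295570508449897772535504262, 15110080),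 (0, 0), (402972720324408518553374816985955509, 9213723), (0, 0), (765987094800775860840415000461512997, 4306235), (0, 0), (292460267219655694215085308097696500, 12917851), (0, 0), (832167116328855060987333227708440115, 2201890)], [(721108957601422835934998773815675630, 9718991), (0, 0), (776883057522212749984300744771570221, 14161611), (0, 0), (174374351704142324343998560157108609, 9841067)]]

/-- The conjugating elements. -/
def Ys : List (List (ℕ × ℕ)) := [[(601461286093367800369401112315539466, 12399660), (0, 0), (714000913021688633870165135261272595, 13904221), (0, 0), (525180080534522327553335008718991011, 5291420), (0, 0), (895030174861219615317423650099284072, 5249380), (0, 0), (274707930989776792303023093598994919, 2844357), (0, 0), (56652743449263132467910332530311914, 1714153), (0, 0), (266486073319928204788464257820802099, 14551296), (0, 0), (252689879675056391140397773237228170, 10113246), (0, 0), (137922980866796903905374634852430415, 4945789)], [(736059389118565361806891237238837363, 3046564), (0, 0), (109371650220977931218388825068284388,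 11124659), (0, 0), (215927128564294634399079537936227562, 9268876), (0, 0), (707104678254452502187335534616422691, 12661896), (0, 0), (554691799224052982587488214389492178, 6234968), (0, 0), (419385092965360727950564415195825728, 10851514)]]

/-- The orbits. -/
def Lv : List (ℕ × List (List ℕ)) := [(769129990632842008238299172710138450, [[0, 0, 1, 2], [1, 1, 1, 1], [0, 0, 0, 0, 1, 1, 1, 2], [0, 0, 2, 2], [0, 0, 0, 1, 1, 1, 2, 2, 2], [1, 1], [0, 0, 0, 1, 1, 1, 1], [0, 1], [0, 1, 1, 1, 2, 2], [0, 1, 1], [0, 0, 0, 0, 1, 1, 2, 2], [0, 0, 0, 1, 2, 2, 2], [1, 1, 2], [0, 0, 2, 2, 2, 2], [0, 0, 0, 0, 1, 1, 1, 1, 2, 2], [1], [0], [0, 0, 0, 0, 2, 2, 2, 2], [0, 0, 0, 2], [0, 0, 0, 0, 2, 2, 2], [0, 2], [0, 0, 1, 1, 2, 2], [0, 0, 0, 1, 1, 1, 1, 2, 2, 2, 2], [0, 0], [1, 1, 1]]), (769129908926381489974743676368798226, [[1, 1, 1, 1, 2, 2], [], [1, 2, 2, 2], [1, 1, 2], [1, 1, 1, 2, 2, 2, 2]])]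

theorem check_ok : C.check = true := by decide +kernel

theorem hL : wordsOK nU Ls = true := by decide +kernel

theorem hY : wordsOK nU Ys = true := by decide +kernel

theorem hrow : (List.range C.n).all (rowOK Sp Ls C) = true := by decide +kernel

theorem hitem : (List.range C.items.length).all (itemOK Sp Ls Ys C) = true := by decide +kernel

theorem hLv : lvOK Ls C.n Lv [] = true := by decide +kernel

theorem hprod : (Lv.map fun q => q.2.length).prod = C.p ^ C.n := by decide +kernel

end Cfsg.Agent.Lib.ConwayP.Co2p5
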