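import Cfsg.Agent.Lib.ConwayP.LatPc
import Cfsg.Agent.Lib.ConwayP.PcFast

/-!
# Tail certificates inside the lattice, with the fast check
-/

set_option autoImplicit false

namespace Cfsg.Agent.Lib.ConwayP.LatPc

open Cfsg Subgroup
open Cfsg.Agent.Lib.Golay.Core Cfsg.Agent.Lib.Golay.Perm Cfsg.Agent.Lib.Leech.Lat
  Cfsg.Agent.Lib.Leech.Vec Cfsg.Agent.Lib.Leech.Word Cfsg.Agent.Lib.Leech.Cert Cfsg.Agent.Lib.Leech.Xi
  Cfsg.Agent.Lib.ConwayP.Bridge
open Cfsg.Agent.Lib.PermComp.Core (force force_eq)
open Cfsg.Agent.Lib.Schur.PcCert Cfsg.Agent.Lib.Schur.PcGroup Cfsg.Agent.Lib.Schur.PcMain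

section Main

variable {Γ : Type*} [Group Γ]
variable {u : Cfsg.leechLattice}

/-- The main theorem, with the fast check. -/
theorem card_ker_dvdF {nU : ℕ} (hu : (u : GolayPt → ℤ) = dec nU) [Finite (KK u)] (c : Cert)
    (hc : PcFast.checkF c = true) {Sp : List ℕ} (hS : Spans Sp) {Ls Ys : List (List (ℕ × ℕ))}
    (hL : wordsOK nU Ls = true) (hY : wordsOK nU Ys = true)
    (hrow : ∀ j < c.n, rowOK Sp Ls c j = true)
    (hit : ∀ f < c.items.length, itemOK Sp Ls Ys c f = true)
    (Lv : List (ℕ × List (List ℕ))) (hLv : lvOK Ls c.n Lv [] = true)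
    (hprod : (Lv.map fun q => q.2.length).prod = c.p ^ c.n)
    {p : ℕ} [Fact p.Prime] (hpc : c.p = p) [Finite Γ] {σ : Γ →* KK u} (hσ : IsStemExtension σ)
    {m : ℕ} (hG : Nat.card (KK u) = c.p ^ c.n * m) (hm : ¬ p ∣ m) (P : Sylow p Γ) :
    Nat.card (σ.subgroupMap (P : Subgroup Γ)).ker ∣ c.zm := by
  have hinj := toCo0_inj u
  have hword : ∀ v v' : List ℕ, eqK Sp (expW Ls v) (expW Ls v') = true →
      wEval (eE u Ls) v = wEval (eE u Ls) v' := by
    intro v v' h
    apply hinj
    rw [toCo0_wEval hu hL, toCo0_wEval hu hL]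
    exact eq_of_eqK hS (expW_valid hL v) (expW_valid hL v') h
  refine PcFast.card_ker_sylow_dvdF c hc hpc hσ (eE u Ls) (fun f => eE u Ys f) ?_ ?_ ?_ ?_ hG hm P
  · intro j i hij hj
    have h1 := hrow j hj
    rw [rowOK, Bool.and_eq_true, List.all_eq_true] at h1
    have := hword _ _ (h1.2 i (List.mem_range.2 hij))
    simpa [wEval_cons] using this
  · intro i hi
    have h1 := hrow i hi
    rw [rowOK, Bool.and_eq_true] at h1
    have := hword _ _ h1.1
    rwa [wEval_replicate] at this
  · intro f l
    by_cases hff : f < c.items.length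
    · have h1 := hit f hff
      rw [itemOK, Bool.and_eq_true, List.all_eq_true] at h1
      by_cases hl : l < (c.items.getD f ([], [])).1.length
      · have h2 := h1.2 l (List.mem_range.2 hl)
        rw [mul_assoc, inv_mul_eq_iff_eq_mul]
        apply hinj
        rw [map_mul, map_mul, toCo0_wEval hu hL, toCo0_wEval hu hL, toCo0_eE hu hY]
        have hv1 : ∀ o ∈ Ys.getD f [] ++ expW Ls (c.lett f l), opV o = true := by
          intro o ho
          rcases List.mem_append.1 ho with ho | ho
          · exact wordsOK_valid hY f o ho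
          · exact expW_valid hL _ o ho
        have hv2 : ∀ o ∈ expW Ls (c.letb f l) ++ Ys.getD f [], opV o = true := by
          intro o ho
          rcases List.mem_append.1 ho with ho | ho
          · exact expW_valid hL _ o ho
          · exact wordsOK_valid hY f o ho
        have h3 := eq_of_eqK hS hv1 hv2 h2
        rw [wG_append, wG_append] at h3
        exact h3
      · have e1 : c.lett f l = [] := by
          rw [Cert.lett, List.getD_eq_default _ _ (by omega)]
        have e2 : c.letb f l = [] := by
          have hlen := Nat.eq_of_beq_eq_true h1.1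
          rw [Cert.letb, List.getD_eq_default _ _ (by omega)]
        rw [e1, e2]
        simp
    · have e1 : c.lett f l = [] := by
        rw [Cert.lett, List.getD_eq_default c.items _ (by omega)]
        simp
      have e2 : c.letb f l = [] := by
        rw [Cert.letb, List.getD_eq_default c.items _ (by omega)]
        simp
      rw [e1, e2]
      simp
  · rw [← hprod]
    have := card_levels hu hL c.n Lv [] (by simp) hLv
    simpa [Fx] using this

end Main

end Cfsg.Agent.Lib.ConwayP.LatPc
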