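import Cfsg.Agent.Lib.ConwayP.LatPc

/-!
# A list of 24 minimal vectors spanning the lattice
-/

set_option autoImplicit false
set_option maxRecDepth 100000
set_option maxHeartbeats 0

namespace Cfsg.Agent.Lib.ConwayP.LatSpan

open Cfsg.Agent.Lib.ConwayP.LatPc Cfsg.Agent.Lib.Leech.Vec Cfsg.Agent.Lib.Leech.ZBasis Cfsg.Agent.Lib.Golay.Perm

/-- The spanning vectors. -/
def Sp : List ℕ := [683538219474658186053382832380199376, 685972029476383115225605343080432208, 602973874077037514634886543804219920, 685974485549418624681459196344420816, 769048779290309253161370535439387154, 686055691940191227368019205359682064, 686136821578457077129857996128008720, 685972027000498242732919246174042704, 602978944677020652001508672307479120, 686134291226672122853899424466750032, 686134291154136647464070605313688078, 602976411854044926768549362896749136, 771804651540462840573141386965565968, 683457010685530236683960260919507472, 686055612711953081311188582226477648, 683457010685603361737014766931100176, 686050703041757273333544507782218256, 769048776734642355516588228889559568, 769129829623192378144010997141682704, 686134209525045020402804149247820306, 769129832099070095673461674395320912,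 686053238345375655218550790930645518, 681023121533089674975535693438665232, 726251588882560267853847416177935859]

/-- The basis in terms of the spanning vectors. -/
def CT : List (List ℤ) := [[(124), (89), (61), (-28), (12), (0), (29), (32), (-160), (142), (-124), (-89), (34), (28), (64), (42), (-168), (-223), (14), (-207), (-4), (-139), (-69), (-45)], [(129), (91), (66), (-28), (14), (2), (29), (35), (-164), (149), (-128), (-92), (36), (30), (66), (42), (-175), (-232), (17), (-215), (-6), (-142), (-71), (-46)], [(-34), (-27), (-13), (9), (-1), (2), (-10), (-7), (48), (-37), (34), (25), (-8), (-6), (-18), (-14), (44), (60), (0), (57), (-2), (43), (20), (14)], [(-248), (-182), (-115), (58), (-19), (4), (-60), (-61), (326), (-281), (249), (180), (-66), (-53), (-129), (-87), (334), (444), (-22), (415), (3), (285), (139), (92)], [(-341), (-248), (-160), (80), (-28), (5), (-81), (-84), (445), (-387), (342), (247), (-91), (-74), (-177), (-118), (460), (610), (-33), (569), (6), (388), (191), (126)], [(-481), (-351), (-225), (113), (-39), (8), (-115), (-118), (628), (-545), (483), (349), (-128), (-104), (-250), (-167), (649), (861), (-45), (803), (8), (548), (269), (178)],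 [(-670), (-489), (-314), (157), (-54), (11), (-160), (-164), (874), (-759), (673), (486), (-178), (-145), (-348), (-232), (904), (1199), (-63), (1118), (11), (763), (374), (248)], [(-1019), (-742), (-481), (237), (-83), (14), (-243), (-252), (1328), (-1156), (1023), (738), (-272), (-221), (-528), (-352), (1375), (1824), (-98), (1701), (18), (1159), (568), (376)], [(-1274), (-927), (-602), (296), (-104), (17), (-303), (-315), (1659), (-1445), (1279), (922), (-340), (-277), (-660), (-440), (1719), (2280), (-123), (2126), (23), (1448), (710), (470)], [(-1584), (-1153), (-749), (367), (-129), (20), (-377), (-393), (2063), (-1797), (1590), (1146), (-423), (-344), (-820), (-547), (2137), (2836), (-153), (2644), (29), (1801), (882), (584)], [(-1710), (-1246), (-808), (396), (-139), (22), (-409), (-423), (2228), (-1939), (1716), (1237), (-456), (-371), (-885), (-592), (2305), (3061), (-163), (2853), (30), (1946), (953), (632)], [(-1906), (-1389), (-901), (441), (-155), (24), (-456), (-472), (2484), (-2162), (1913), (1379), (-509), (-414), (-987), (-660), (2570), (3413), (-182), (3181), (34), (2169), (1062), (704)], [(107), (76), (52), (-25), (11), (-1), (25), (26), (-139), (122),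 (-107), (-76), (29), (25), (56), (37), (-145), (-192), (12), (-178), (-3), (-120), (-61), (-40)], [(116), (84), (58), (-25), (11), (3), (28), (32), (-150), (133), (-113), (-83), (31), (25), (58), (39), (-154), (-207), (13), (-193), (-4), (-132), (-64), (-42)], [(-150), (-110), (-68), (36), (-9), (5), (-34), (-36), (195), (-170), (154), (111), (-40), (-32), (-79), (-51), (206), (270), (-14), (252), (2), (170), (83), (54)], [(171), (127), (79), (-39), (11), (-2), (41), (43), (-225), (194), (-173), (-125), (46), (36), (89), (60), (-232), (-308), (15), (-288), (-2), (-197), (-95), (-62)], [(-54), (-34), (-31), (12), (-8), (-2), (-10), (-16), (66), (-65), (53), (38), (-16), (-14), (-27), (-15), (75), (97), (-12), (90), (5), (56), (30), (18)], [(399), (299), (176), (-95), (22), (-15), (96), (92), (-526), (448), (-410), (-294), (105), (84), (211), (142), (-544), (-718), (29), (-670), (0), (-460), (-222), (-148)], [(-54), (-33), (-35), (11), (-12), (-6), (-13), (-18), (65), (-64), (47), (35), (-15), (-13), (-24), (-16), (67), (93), (-11), (86), (6), (57), (30), (20)], [(70), (52), (32), (-17), (5), (-2), (17), (17), (-92), (78), (-70), (-51), (18), (14), (36), (25), (-93), (-124),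 (5), (-117), (0), (-81), (-38), (-26)], [(-31), (-44), (12), (15), (17), (20), (-11), (4), (57), (-18), (41), (32), (0), (5), (-21), (-23), (39), (51), (23), (59), (-19), (56), (10), (14)], [(29), (16), (20), (-5), (7), (4), (6), (10), (-34), (37), (-27), (-19), (10), (9), (14), (7), (-40), (-53), (9), (-47), (-5), (-28), (-18), (-10)], [(125), (91), (59), (-29), (10), (-2), (30), (31), (-163), (142), (-126), (-91), (34), (27), (65), (43), (-169), (-224), (12), (-209), (-2), (-142), (-70), (-46)], [(157), (116), (72), (-37), (11), (-4), (38), (38), (-206), (177), (-159), (-115), (42), (33), (82), (55), (-212), (-281), (13), (-263), (-1), (-180), (-87), (-58)]]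

theorem Sp_inL : ∀ b ∈ Sp, inL b = true := by decide +kernel

theorem Sp_len : Sp.length = 24 := by decide +kernel

theorem table_ok : ∀ k ∈ List.range 24, ∀ i ∈ List.range 24,
    tab bT k i = ((List.range 24).map fun j =>
      tab CT k j * (((img (Sp.getD j 0) i : ℕ) : ℤ) - 16)).sum := by decide +kernel

theorem spans : Spans Sp := spans_of_table Sp CT Sp_inL Sp_len table_ok

end Cfsg.Agent.Lib.ConwayP.LatSpan
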